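import Cfsg.Agent.FieldEmb.QuadExt

/-!
Restriction of scalars of the hermitian norm on `F_{q²}^n` to a quadratic form over `F_q`, and the
resulting homomorphisms out of the general unitary groups.
-/

set_option autoImplicit false

namespace CfsgLib.GUEmb

open CfsgLib.FieldEmb Module

variable {F K : Type*} [Field F] [Fintype F] [Field K] [Fintype K] [Algebra F K] {q : ℕ}

theorem mem_GU {n : ℕ} {g : GL (Fin n) K} :
    g ∈ Cfsg.GU n K q ↔ ∀ u v, Cfsg.hermForm n K q ((g : Matrix (Fin n) (Fin n) K).mulVec u)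
      ((g : Matrix (Fin n) (Fin n) K).mulVec v) = Cfsg.hermForm n K q u v := Iff.rfl

/-- An injective linear map from `F^κ` onto `K^n` turning `Q` into the hermitian norm embeds `GU_n`. -/
theorem exists_hom {κ : Type} [Fintype κ] [DecidableEq κ] {n : ℕ} (hF : Fintype.card F = q)
    (hK : Fintype.card K = q ^ 2) (hκ : Fintype.card κ = 2 * n) (Ψ : (κ → F) →ₗ[F] (Fin n → K))
    (hΨ : Function.Injective Ψ) (Q : (κ → F) → F)
    (hQ : ∀ v, Cfsg.hermForm n K q (Ψ v) (Ψ v) = algebraMap F K (Q v)) :
    ∃ φ : ↥(Cfsg.GU n K q) →* ↥(Cfsg.isometryGroup F Q), Function.Injective φ := by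
  haveI : FiniteDimensional F K := Module.Finite.of_finite
  have hfr : finrank F (κ → F) = finrank F (Fin n → K) := by
    rw [finrank_pi, finrank_pi_fintype, finrank_eq hF hK, hκ]
    simp [mul_comm]
  let e : (Fin n → K) ≃ₗ[F] (κ → F) :=
    (LinearEquiv.ofBijective Ψ ⟨hΨ, (LinearMap.injective_iff_surjective_of_finrank_eq_finrank hfr).1 hΨ⟩).symm
  have he : ∀ v, Ψ (e v) = v := fun v => e.symm_apply_apply v
  refine ⟨((Units.map (restrictMat e)).comp (Cfsg.GU n K q).subtype).codRestrict _ fun g => ?_, fun g h hgh => ?_⟩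
  · rw [mem_isometryGroup]
    intro v
    apply (algebraMap F K).injective
    show algebraMap F K (Q ((restrictMat e ((g : GL (Fin n) K) : Matrix (Fin n) (Fin n) K)).mulVec v)) = _
    rw [restrictMat_mulVec, ← hQ, he, mem_GU.1 g.2, ← hQ]
    rfl
  · have := congrArg (fun x : ↥(Cfsg.isometryGroup F Q) => ((x : GL κ F) : Matrix κ κ F)) hgh
    exact Subtype.ext (Units.ext (restrictMat_injective e this))

/-- In even dimension the hermitian norm restricts to the hyperbolic form. -/
theorem exists_plus_map (hF : Fintype.card F = q) (hK : Fintype.card K = q ^ 2) {n : ℕ} (hn : Even n) :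
    ∃ Ψ : (Fin n ⊕ Fin n → F) →ₗ[F] (Fin n → K), Function.Injective Ψ ∧
      ∀ v, Cfsg.hermForm n K q (Ψ v) (Ψ v) = algebraMap F K (Cfsg.quadFormPlus n F v) := by
  obtain ⟨σ, hσ, hσσ⟩ := exists_conj hK
  obtain ⟨T, hT, hT0⟩ := exists_trace hF hK
  obtain ⟨b, d, hbd⟩ := exists_dual_bases hF hK hT0
  obtain ⟨a, ha⟩ := exists_norm_eq (K := K) hF hK (-1)
  obtain ⟨l, hl⟩ := LinearMap.surjective hT0 (-1)
  rw [map_neg, map_one] at ha
  have hl' : l + l ^ q = -1 := by rw [← hT, hl, map_neg, map_one]
  have ha0 : a ≠ 0 := fun h => by simp [h] at ha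
  obtain ⟨k, rfl⟩ := hn
  let ε : Fin (k + k) ≃ Fin k × Fin 2 := (finCongr (by ring)).trans finProdFinEquiv.symm
  let zv : (Fin (k + k) ⊕ Fin (k + k) → F) → Fin k → K := fun v j =>
    ∑ i, algebraMap F K (v (.inl (ε.symm (j, i)))) * b i
  let wv : (Fin (k + k) ⊕ Fin (k + k) → F) → Fin k → K := fun v j =>
    ∑ i, algebraMap F K (v (.inr (ε.symm (j, i)))) * σ (d i)
  let Ψ : (Fin (k + k) ⊕ Fin (k + k) → F) →ₗ[F] (Fin (k + k) → K) :=
    { toFun := fun v s => if (ε s).2 = 0 then zv v (ε s).1 + (1 + l) * wv v (ε s).1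
        else a * zv v (ε s).1 + l * a * wv v (ε s).1
      map_add' := fun u v => by
        ext s
        simp only [zv, wv, Pi.add_apply, map_add, add_mul, Finset.sum_add_distrib]
        split_ifs <;> ring
      map_smul' := fun c v => by
        ext s
        simp only [RingHom.id_apply, Pi.smul_apply]
        simp only [zv, wv, Pi.smul_apply, smul_eq_mul, map_mul, mul_assoc, ← Finset.mul_sum]
        simp only [Algebra.smul_def]
        split_ifs <;> ring }
  have hΨ0 : ∀ v j, Ψ v (ε.symm (j, 0)) = zv v j + (1 + l) * wv v j := fun v j => by simp [Ψ]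
  have hΨ1 : ∀ v j, Ψ v (ε.symm (j, 1)) = a * zv v j + l * a * wv v j := fun v j => by simp [Ψ]
  refine ⟨Ψ, ?_, fun v => ?_⟩
  · rw [injective_iff_map_eq_zero]
    intro v hv
    have hsum0 : ∀ (B : Basis (Fin 2) F K) (c : Fin 2 → F),
        ∑ i, algebraMap F K (c i) * B i = 0 → ∀ i, c i = 0 := fun B c h => by
      simp only [← Algebra.smul_def] at h
      exact Fintype.linearIndependent_iff.1 B.linearIndependent c h
    have hzw : ∀ j, zv v j = 0 ∧ wv v j = 0 := fun j => by
      have e0 := hΨ0 v j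
      have e1 := hΨ1 v j
      rw [hv, Pi.zero_apply] at e0 e1
      have hw : wv v j = 0 := by
        refine (mul_eq_zero.1 (?_ : a * wv v j = 0)).resolve_left ha0
        linear_combination e1 - a * e0
      refine ⟨?_, hw⟩
      rw [hw] at e0
      linear_combination -e0
    funext s
    rcases s with t | t
    · have := hsum0 b (fun i => v (.inl (ε.symm ((ε t).1, i)))) (hzw (ε t).1).1 (ε t).2
      simpa using this
    · have hwd : ∑ i, algebraMap F K (v (.inr (ε.symm ((ε t).1, i)))) * d i = 0 := by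
        have := congrArg σ (hzw (ε t).1).2
        simp only [wv, map_sum, map_mul, map_zero, hσσ] at this
        simpa only [hσ, pow_q_fixed hF] using this
      have := hsum0 d (fun i => v (.inr (ε.symm ((ε t).1, i)))) hwd (ε t).2
      simpa using this
  · simp only [Cfsg.hermForm, Cfsg.quadFormPlus, map_sum, ← hσ]
    rw [← ε.symm.sum_comp, ← ε.symm.sum_comp, Fintype.sum_prod_type, Fintype.sum_prod_type]
    refine Finset.sum_congr rfl fun j _ => ?_
    rw [Fin.sum_univ_two, hΨ0, hΨ1]
    have hha : a * σ a = -1 := by rw [hσ, ha]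
    have hhl : l + σ l = -1 := by rw [hσ, hl']
    have hp : (zv v j + (1 + l) * wv v j) * σ (zv v j + (1 + l) * wv v j)
        + (a * zv v j + l * a * wv v j) * σ (a * zv v j + l * a * wv v j)
        = zv v j * σ (wv v j) + σ (zv v j * σ (wv v j)) := by
      simp only [map_add, map_mul, map_one, hσσ]
      linear_combination ((zv v j + l * wv v j) * (σ (zv v j) + σ l * σ (wv v j))) * hha
        + (wv v j * σ (wv v j)) * hhl
    rw [hp, show ∀ x, x + σ x = algebraMap F K (T x) from fun x => by rw [hσ, hT], ← map_sum]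
    congr 1
    have hw' : σ (wv v j) = ∑ i, v (.inr (ε.symm (j, i))) • d i := by
      simp only [wv, map_sum, map_mul, hσσ, Algebra.smul_def]
      simp only [hσ, pow_q_fixed hF]
    have hz' : zv v j = ∑ i, v (.inl (ε.symm (j, i))) • b i := by simp only [zv, Algebra.smul_def]
    rw [hw', hz']
    simp only [Fin.sum_univ_two, add_mul, mul_add, smul_mul_smul_comm, map_add, map_smul, smul_eq_mul, hbd]
    simp

end CfsgLib.GUEmb
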